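import Cfsg.Agent.H85.Normal
import Cfsg.Agent.H85.GroupSystem
import Cfsg.Prelude.Def_TwoFusion

/-! Class two Sylow subgroups with strongly closed centre (helper85). -/

set_option autoImplicit false

open Cfsg Cfsg.FusionSystem

namespace H85

variable {G : Type*} [Group G]

theorem stronglyClosed_of_isStronglyClosed {S Q : Subgroup G} (h : Cfsg.IsStronglyClosed Q S) :
    (groupFusionSystem S).StronglyClosed Q := by
  refine ⟨h.1, fun R hR φ hφ x => ?_⟩
  obtain ⟨-, hS, g, hg⟩ := hφ
  rw [hg]
  exact h.2 x (hR x.2) g (hg x ▸ hS x)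

theorem normalizer_controls_of_isNormal [Finite G] {S : Subgroup G}
    (h : (groupFusionSystem S).IsNormal S) (P : Subgroup G) (φ : P →* G)
    (hφ : φ ∈ (groupFusionSystem S).Hom P) :
    ∃ g ∈ Subgroup.normalizer (S : Set G), ∀ x : P, φ x = g * (x : G) * g⁻¹ := by
  obtain ⟨ψ, ⟨-, -, g, hg⟩, hext, hmap⟩ := h.2 P φ hφ
  replace hmap : img ψ S = S := hmap
  refine ⟨g, ?_, fun x => by rw [← hext, hg]; rfl⟩
  exact mem_normalizer_of_conj fun x hx =>
    (hg ⟨x, le_sup_right (α := Subgroup G) hx⟩) ▸ hmap.le (apply_mem_img hx)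

theorem class_two_core [Finite G] {p : ℕ} [Fact p.Prime] (S : Sylow p G)
    (hcl : ⁅(S : Subgroup G), (S : Subgroup G)⁆ ≤
      (S : Subgroup G) ⊓ Subgroup.centralizer ((S : Subgroup G) : Set G))
    (hZ : Cfsg.IsStronglyClosed
      ((S : Subgroup G) ⊓ Subgroup.centralizer ((S : Subgroup G) : Set G)) (S : Subgroup G)) :
    (groupFusionSystem (S : Subgroup G)).IsNormal S := by
  set Z := (S : Subgroup G) ⊓ Subgroup.centralizer ((S : Subgroup G) : Set G) with hZdef
  have hS' : (groupFusionSystem (S : Subgroup G)).StronglyClosed S :=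
    ⟨le_rfl, fun R _ φ hφ x => map_mem hφ x⟩
  let Qs : ℕ → Subgroup G := fun i => if i = 0 then ⊥ else if i = 1 then Z else S
  have h := isNormal_of_chain S.2 (isSaturated_groupFusionSystem S) 2 Qs rfl ?_ ?_
  · simpa [Qs] using h
  · intro i _
    match i with
    | 0 => exact stronglyClosed_bot _
    | 1 => exact stronglyClosed_of_isStronglyClosed hZ
    | _ + 2 => simpa [Qs] using hS'
  · intro i hi
    interval_cases i
    · simp only [Qs, zero_add, if_true, if_false, Nat.one_ne_zero, OfNat.ofNat_ne_zero,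
        OfNat.ofNat_ne_one]
      rw [Subgroup.commutator_le]
      intro a ha b hb
      rw [Subgroup.mem_bot, commutatorElement_eq_one_iff_mul_comm]
      exact Subgroup.mem_centralizer_iff.1 hb.2 a ha
    · simpa [Qs] using hcl

end H85
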