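import Cfsg.Agent.H85.LBalanceTwo
import Cfsg.Agent.H9.ExtLayer2

/-!
Core balance and extended 2-layer balance (helper85).

Let `X` have trivial odd core and let `M = E(X) O_2(X)`. For a 2-subgroup `R` one climbs from `R` to
`N_U(R)`, `U` a Sylow subgroup of `M R`, to see that `O(C(R))` lies in `E(X) O(C(V))` for a 2-subgroup
`V` of maximal order in `M`. At the top of the chain all elements of odd order of `C(T)`, `T = R ⊓ M`,
lie in `O(C(T))`, since the automorphisms of a component fixing a Sylow 2-subgroup have a derived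
group of odd order.
-/

set_option autoImplicit false
set_option linter.style.haveILetI false
set_option linter.unusedSectionVars false

open Cfsg Cfsg.Comp

namespace H85.CoreBal

open H85.LBal
open Cfsg.Agent.H9 (coreC map_coreC_le coreC_le_centralizer not_dvd_card_coreC twoBase
  pLayer_normal exists_conj_le_sylow_map)

universe u

section General

variable {Y : Type u} [Group Y] [Finite Y]

/-- A subgroup of odd order of `C(S)` normalized by `C(S)` lies in `O(C(S))`. -/
theorem le_coreC {A S : Subgroup Y} (hA : A ≤ Subgroup.centralizer (S : Set Y))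
    (hodd : ¬ 2 ∣ Nat.card A)
    (hn : ∀ c ∈ Subgroup.centralizer (S : Set Y), ∀ a ∈ A, c * a * c⁻¹ ∈ A) : A ≤ coreC S := by
  haveI : Fact (Nat.Prime 2) := ⟨Nat.prime_two⟩
  intro a ha
  refine ⟨⟨a, hA ha⟩, ?_, rfl⟩
  have hN : (A.subgroupOf (Subgroup.centralizer (S : Set Y))).Normal :=
    ⟨fun x hx c => hn c c.2 x hx⟩
  exact Comp.le_pPrimeCore hN (Comp.coprime_iff_not_dvd.2 (by rw [Comp.card_subgroupOf hA]; exact hodd)) ha

/-- An element normalizing `S` normalizes `O(C(S))`. -/
theorem conj_mem_coreC {S : Subgroup Y} {g : Y} (hg : g ∈ Subgroup.normalizer (S : Set Y)) {x : Y}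
    (hx : x ∈ coreC S) : g * x * g⁻¹ ∈ coreC S := by
  have h := map_coreC_le (MulAut.conj g) S ⟨x, hx, rfl⟩
  rw [Comp.map_conj_eq_of_mem_normalizer hg] at h
  exact h

/-- A group with a central Sylow 2-subgroup: the odd-order elements of a normal such subgroup lie in
an odd normal subgroup. -/
theorem mem_core_of_central_sylow {W : Subgroup Y} [W.Normal]
    (hc : ∀ w ∈ W, (∃ i : ℕ, w ^ 2 ^ i = 1) → ∀ v ∈ W, v * w = w * v) {d : Y} (hd : d ∈ W)
    (hdo : Odd (orderOf d)) : d ∈ pPrimeCore 2 Y := by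
  haveI : Fact (Nat.Prime 2) := ⟨Nat.prime_two⟩
  obtain ⟨P⟩ : Nonempty (Sylow 2 W) := inferInstance
  have hP : Subgroup.normalizer ((P : Subgroup W) : Set W) ≤
      Subgroup.centralizer ((P : Subgroup W) : Set W) := fun v _ w hw => by
    obtain ⟨i, hi⟩ := P.2 ⟨w, hw⟩
    exact Subtype.ext (hc w w.2 ⟨i, congrArg (fun z : (P : Subgroup W) => ((z : W) : Y)) hi⟩ v v.2).symm
  set K := (MonoidHom.transferSylow P hP).ker with hK
  have hKodd : ¬ 2 ∣ Nat.card K := MonoidHom.not_dvd_card_ker_transferSylow P hP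
  have hmem : ∀ w : W, Odd (orderOf w) → w ∈ K := fun w hw => by
    rw [hK, MonoidHom.mem_ker]
    obtain ⟨i, hi⟩ := P.2 (MonoidHom.transferSylow P hP w)
    exact orderOf_eq_one_iff.1 (Nat.eq_one_of_dvd_coprimes
      ((Nat.coprime_two_right.2 hw).pow_right i) (orderOf_map_dvd _ w) (orderOf_dvd_of_pow_eq_one hi))
  have hodd : ∀ w ∈ K, Odd (orderOf (w : Y)) := fun w hw => by
    rw [Subgroup.orderOf_coe, Nat.odd_iff, ← Nat.two_dvd_ne_zero]
    exact fun h => hKodd (h.trans (K.orderOf_dvd_natCard hw))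
  have hN : (K.map W.subtype).Normal := ⟨by
    rintro _ ⟨w, hw, rfl⟩ g
    refine ⟨⟨g * (w : Y) * g⁻¹, (inferInstance : W.Normal).conj_mem _ w.2 g⟩, hmem _ ?_, rfl⟩
    rw [← Subgroup.orderOf_coe]
    show Odd (orderOf (g * (w : Y) * g⁻¹))
    rw [← MulAut.conj_apply, MulEquiv.orderOf_eq]
    exact hodd w hw⟩
  refine Comp.le_pPrimeCore hN (Comp.coprime_iff_not_dvd.2 (by rw [Comp.card_map_subtype]; exact hKodd))
    ⟨⟨d, hd⟩, hmem _ (by rwa [← Subgroup.orderOf_coe]), rfl⟩

end General

variable {X : Type u} [Group X] [Finite X]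

/-- The top of the chain: `C(T)` has a normal 2-complement. -/
theorem mem_coreC_of_odd (hO : pPrimeCore 2 X = ⊥) {T : Subgroup X} (hTp : IsPGroup 2 T)
    (hTM : T ≤ eTwo X)
    (hmax : ∀ V : Subgroup X, V ≤ eTwo X → IsPGroup 2 V → Nat.card V ≤ Nat.card T)
    {d : X} (hd : d ∈ Subgroup.centralizer (T : Set X)) (hdo : Odd (orderOf d)) : d ∈ coreC T := by
  haveI : Fact (Nat.Prime 2) := ⟨Nat.prime_two⟩
  set M := eTwo X with hM
  set Y := Subgroup.centralizer (T : Set X) with hY
  have hcom : ∀ k ∈ Y, ∀ t ∈ T, k * t = t * k := fun k hk t ht => (hk t ht).symm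
  have hTI : IsPGroup 2 (T ⊓ M : Subgroup X) := hTp.to_inf_left
  have hmax' : ∀ V : Subgroup X, V ≤ M → IsPGroup 2 V →
      Nat.card V ≤ Nat.card (T ⊓ M : Subgroup X) := by rwa [inf_eq_left.2 hTM]
  -- `O_2(X) ≤ T`
  have hPT : pCore 2 X ≤ T := by
    have hp : IsPGroup 2 (T ⊔ pCore 2 X : Subgroup X) :=
      hTp.to_sup_of_normal_right' (pCore_isPGroup 2) Cfsg.Comp.le_normalizer_of_normal
    have h1 := hmax _ (sup_le hTM le_sup_right) hp
    have h2 : T = T ⊔ pCore 2 X := Subgroup.eq_of_le_of_card_ge le_sup_left h1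
    exact le_sup_right.trans h2.symm.le
  have hcomp : ∀ L : Subgroup X, IsComponent L → L ≤ M ∧ M ≤ Subgroup.normalizer (L : Set X) :=
    fun L hL => ⟨le_sup_of_le_left (le_layer hL), sup_le (layer_le_normalizer_component hL) (by
      refine le_trans ?_ (Subgroup.centralizer_le_normalizer _)
      rw [← Subgroup.commutator_eq_bot_iff_le_centralizer, Subgroup.commutator_comm, eq_bot_iff,
        ← commutator_layer_fitting (G := X)]
      exact Subgroup.commutator_mono (le_layer hL) (pCore_le_fitting 2))⟩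
  have hsyl : ∀ L : Subgroup X, IsComponent L → ∃ S : Sylow 2 L, ∀ t ∈ (S : Subgroup L), (t : X) ∈ T := by
    intro L hL
    obtain ⟨S, hS⟩ := (show IsPGroup 2 ((T ⊓ L).subgroupOf L) from
      hTp.to_inf_left.comap_subtype).exists_le_sylow
    refine ⟨S, fun t ht => ?_⟩
    have heq : (T ⊓ L).subgroupOf L = (S : Subgroup L) := by
      refine Subgroup.eq_of_le_of_card_ge hS ?_
      rw [Comp.card_subgroupOf inf_le_right, ← Comp.card_map_subtype (S : Subgroup L)]
      exact max_of_normal (hcomp L hL).1 (hcomp L hL).2 hTI hmax' _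
        (Subgroup.map_subtype_le _) (S.2.map _)
    rw [← heq] at ht
    exact ht.1
  -- `C(T)` normalizes every component
  have hnorm : ∀ L : Subgroup X, IsComponent L → Y ≤ Subgroup.normalizer (L : Set X) := by
    intro L hL k hk
    obtain ⟨S, hS⟩ := hsyl L hL
    have hkT : ∀ t ∈ (S : Subgroup L), k * (t : X) * k⁻¹ = t := fun t ht => by
      rw [hcom k hk _ (hS t ht), mul_inv_cancel_right]
    rcases component_eq_or_commute (isComponent_conj hL k) hL with h | h
    · exact (H71.map_conj_eq_self_iff L k).1 h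
    · exfalso
      have hc : (S : Subgroup L) ≤ Subgroup.center L := fun t ht =>
        Subgroup.mem_center_iff.2 fun l => Subtype.ext (by
          have h1 := commute_of_commutator_eq_bot h
            (x := k * (t : X) * k⁻¹) (y := (l : X)) ⟨t, t.2, rfl⟩ l.2
          rw [hkT t ht] at h1
          exact h1.symm)
      exact S.not_dvd_index
        ((dvd_index_center_component hO hL).trans (Subgroup.index_dvd_of_le hc))
  set o := ordCompl[2] (Nat.card Y) with ho
  have ho2 : Odd o := Nat.odd_iff.2 (Nat.two_dvd_ne_zero.1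
    (Nat.not_dvd_ordCompl Nat.prime_two Nat.card_pos.ne'))
  -- for each component a normal subgroup of `C(T)` with all odd-order elements, whose 2-elements
  -- centralize the component
  have hS : ∀ L : Subgroup X, IsComponent L → ∃ S : Subgroup Y, S.Normal ∧
      (∀ y : Y, Odd (orderOf y) → y ∈ S) ∧
      ∀ y ∈ S, (∃ i : ℕ, y ^ 2 ^ i = 1) → (y : X) ∈ Subgroup.centralizer (L : Set X) := by
    intro L hL
    obtain ⟨S0, hS0⟩ := hsyl L hL
    set Z := Subgroup.center L with hZ
    haveI hsimple : IsSimpleGroup (L ⧸ Z) := hL.2.2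
    set T' := S0.mapSurjective (QuotientGroup.mk'_surjective Z) with hT'
    have hO' : pPrimeCore 2 (L ⧸ Z) = ⊥ := by
      haveI := H1.pPrimeCore_normal' 2 (L ⧸ Z)
      refine (Subgroup.Normal.eq_bot_or_eq_top inferInstance).resolve_right fun htop => ?_
      have h1 := not_dvd_card_pPrimeCore 2 (G := L ⧸ Z)
      rw [htop, Subgroup.card_top] at h1
      exact h1 (dvd_index_center_component hO hL)
    set ψ := (H71.autModCenter L).comp (H71.conjOn (hnorm L hL)) with hψ
    have hfix : ψ.range ≤ fixAut (T' : Subgroup (L ⧸ Z)) := by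
      rintro _ ⟨k, rfl⟩ _ ⟨t, ht, rfl⟩
      show QuotientGroup.mk' Z (H71.conjOn (hnorm L hL) k t) = QuotientGroup.mk' Z t
      refine congrArg _ (Subtype.ext ?_)
      show (k : X) * (t : X) * (k : X)⁻¹ = t
      rw [hcom k k.2 _ (hS0 t ht), mul_inv_cancel_right]
    let ψ' : Y →* fixAut (T' : Subgroup (L ⧸ Z)) := ψ.codRestrict _ fun k => hfix ⟨k, rfl⟩
    let χ := (powMonoidHom o).comp (Abelianization.of.comp ψ')
    refine ⟨χ.ker, inferInstance, fun y hy => ?_, fun y hy hi => ?_⟩
    · rw [MonoidHom.mem_ker]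
      show (Abelianization.of (ψ' y)) ^ o = 1
      rw [← map_pow, ← map_pow, orderOf_dvd_iff_pow_eq_one.1 ?_, map_one, map_one]
      have h1 : orderOf y ∣ 2 ^ ((Nat.card Y).factorization 2) * o := by
        rw [ho, Nat.ordProj_mul_ordCompl_eq_self]
        exact orderOf_dvd_natCard y
      exact ((Nat.coprime_two_right.2 hy).pow_right _).dvd_of_dvd_mul_left h1
    · obtain ⟨i, hi⟩ := hi
      have hodd := odd_card_commutator_fixAut T' hO'
      have h1 : Abelianization.of (ψ' y) = 1 := by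
        refine orderOf_eq_one_iff.1 (Nat.eq_one_of_dvd_coprimes
          ((Nat.coprime_two_right.2 ho2).pow_right i)
          (orderOf_dvd_of_pow_eq_one (MonoidHom.mem_ker.1 hy)) (orderOf_dvd_of_pow_eq_one ?_))
        rw [← map_pow, ← map_pow, hi, map_one, map_one]
      have h2 : ψ' y ∈ commutator (fixAut (T' : Subgroup (L ⧸ Z))) := by
        rw [← Abelianization.ker_of]
        exact h1
      have h3 : ψ' y = 1 := orderOf_eq_one_iff.1 (Nat.eq_one_of_dvd_coprimes
        ((Nat.coprime_two_right.2 hodd).pow_right i) (Subgroup.orderOf_dvd_natCard _ h2)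
        (orderOf_dvd_of_pow_eq_one (by rw [← map_pow, hi, map_one])))
      refine H71.centralizes_of_trivial_mod_center hL (fun x hx => ?_) (hnorm L hL y.2)
      have h4 : QuotientGroup.mk' Z (H71.conjOn (hnorm L hL) y ⟨x, hx⟩) =
          QuotientGroup.mk' Z ⟨x, hx⟩ :=
        MulEquiv.congr_fun (congrArg Subtype.val h3) (QuotientGroup.mk' Z ⟨x, hx⟩)
      have h5 : H71.conjOn (hnorm L hL) y ⟨x, hx⟩ * (⟨x, hx⟩ : L)⁻¹ ∈ Z := by
        rw [← QuotientGroup.eq_one_iff]
        show QuotientGroup.mk' Z _ = 1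
        rw [map_mul, map_inv, h4, mul_inv_cancel]
      intro w hw
      exact congrArg Subtype.val (Subgroup.mem_center_iff.1 h5 ⟨w, hw⟩)
  choose S hSn hSodd hSc using hS
  set W : Subgroup Y := ⨅ L : {L : Subgroup X // IsComponent L}, S L.1 L.2 with hW
  haveI : W.Normal := Subgroup.normal_iInf_normal fun L => hSn L.1 L.2
  -- the 2-elements of `W` lie in `O_2(X)`
  have hZ : ∀ w ∈ W, (∃ i : ℕ, w ^ 2 ^ i = 1) → (w : X) ∈ pCore 2 X := by
    intro w hw hi
    set A := Subgroup.centralizer (generalizedFittingSubgroup X : Set X) with hA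
    have hwA : (w : X) ∈ A := by
      have h1 : generalizedFittingSubgroup X ≤ Subgroup.centralizer ({(w : X)} : Set X) := by
        refine sup_le (layer_le_iff.mpr fun L hL x hx => ?_)
          ((H71.fitting_le_pCore hO).trans fun x hx => ?_)
        · exact Subgroup.mem_centralizer_singleton_iff.2
            (hSc L hL w (Subgroup.mem_iInf.1 hw ⟨L, hL⟩) hi x hx)
        · exact Subgroup.mem_centralizer_singleton_iff.2 (hcom _ w.2 x (hPT hx)).symm
      exact fun x hx => Subgroup.mem_centralizer_singleton_iff.1 (h1 hx)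
    haveI hFn : (generalizedFittingSubgroup X).Normal := by
      haveI : (layer X).Characteristic := Subgroup.characteristic_iff_map_eq.2 fun e => layer_map_equiv e
      haveI : (fittingSubgroup X).Normal := Subgroup.sSup_normal _ fun _ h => h.1
      exact Subgroup.sup_normal _ _
    have hAn : A.Normal := inferInstance
    have hab : ⁅A, A⁆ = ⊥ := Subgroup.commutator_eq_bot_iff_le_centralizer.2
      (Subgroup.centralizer_le (centralizer_fStar_le (G := X)))
    have hnil : Group.IsNilpotent A := isNilpotent_of_commutator_commutator (by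
      rw [hab, eq_bot_iff]
      exact Subgroup.commutator_le.2 fun a ha b _ => by simp [Subgroup.mem_bot.1 ha])
    exact (H71.fitting_le_pCore hO) (le_fittingSubgroup hAn hnil hwA)
  refine ⟨⟨d, hd⟩, mem_core_of_central_sylow (W := W) (fun w hw hi v _ => ?_)
    (Subgroup.mem_iInf.2 fun L => hSodd L.1 L.2 _ (by rwa [← Subgroup.orderOf_coe]))
    (by rwa [← Subgroup.orderOf_coe]), rfl⟩
  exact Subtype.ext (hcom _ v.2 _ (hPT (hZ w hw hi)))

/-- Core balance in a group with trivial odd core. -/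
theorem coreC_le_aux (hO : pPrimeCore 2 X = ⊥) : ∀ (n : ℕ) (R : Subgroup X), IsPGroup 2 R →
    Nat.card X - Nat.card R = n → ∃ V : Subgroup X, V ≤ eTwo X ∧ IsPGroup 2 V ∧
      (∀ W : Subgroup X, W ≤ eTwo X → IsPGroup 2 W → Nat.card W ≤ Nat.card V) ∧
      coreC R ≤ layer X ⊔ coreC V := by
  haveI : Fact (Nat.Prime 2) := ⟨Nat.prime_two⟩
  intro n
  induction n using Nat.strong_induction_on with
  | _ n ih =>
  intro R hR hn
  subst hn
  set M := eTwo X with hM
  haveI hLn : (layer X).Normal := by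
    haveI : (layer X).Characteristic := Subgroup.characteristic_iff_map_eq.2 fun e => layer_map_equiv e
    infer_instance
  haveI hMn : M.Normal := Subgroup.sup_normal _ _
  obtain ⟨U0, hU0⟩ := (show IsPGroup 2 (R.subgroupOf (M ⊔ R)) from hR.comap_subtype).exists_le_sylow
  set U := (U0 : Subgroup ↥(M ⊔ R)).map (M ⊔ R).subtype with hU
  have hRU : R ≤ U := fun r hr =>
    ⟨⟨r, le_sup_right (α := Subgroup X) hr⟩, hU0 hr, rfl⟩
  have hUp : IsPGroup 2 U := U0.2.map _
  have hdodd : ∀ d ∈ coreC R, Odd (orderOf d) := fun d hd => by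
    rw [Nat.odd_iff, ← Nat.two_dvd_ne_zero]
    exact fun h => not_dvd_card_coreC R (h.trans (Subgroup.orderOf_dvd_natCard _ hd))
  rcases eq_or_lt_of_le hRU with heq | hlt
  · -- `R` is a Sylow subgroup of `M R`
    have hRle : R ≤ M ⊔ R := le_sup_right
    have hmax : ∀ V : Subgroup X, V ≤ M → IsPGroup 2 V →
        Nat.card V ≤ Nat.card (R ⊓ M : Subgroup X) := by
      refine max_of_normal (A := M ⊔ R) le_sup_left Cfsg.Comp.le_normalizer_of_normal hR.to_inf_left
        fun V hV hVp => ?_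
      obtain ⟨V0, hV0⟩ := (show IsPGroup 2 (V.subgroupOf (M ⊔ R)) from hVp.comap_subtype).exists_le_sylow
      rw [inf_eq_left.2 hRle]
      calc Nat.card V = Nat.card (V.subgroupOf (M ⊔ R)) := (Comp.card_subgroupOf hV).symm
        _ ≤ Nat.card V0 := Subgroup.card_le_of_le hV0
        _ = Nat.card U0 := Nat.card_congr (Sylow.equiv V0 U0).toEquiv
        _ = Nat.card R := by rw [← Comp.card_map_subtype (U0 : Subgroup ↥(M ⊔ R)), ← hU, ← heq]
    refine ⟨R ⊓ M, inf_le_right, hR.to_inf_left, hmax, fun d hd => le_sup_right (α := Subgroup X) ?_⟩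
    exact mem_coreC_of_odd hO hR.to_inf_left inf_le_right hmax
      (Subgroup.centralizer_le (show ((R ⊓ M : Subgroup X) : Set X) ⊆ R from inf_le_left)
        (coreC_le_centralizer R hd)) (hdodd d hd)
  -- the normalizer of `R` in `U`
  haveI := hUp.isNilpotent
  set R1 := U ⊓ Subgroup.normalizer (R : Set X) with hR1
  have hR1p : IsPGroup 2 R1 := hUp.to_inf_left
  have hRR1 : R < R1 := by
    have hne : R.subgroupOf U < ⊤ := lt_top_iff_ne_top.2 fun h => by
      rw [Subgroup.subgroupOf_eq_top] at h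
      exact absurd h hlt.not_ge
    obtain ⟨w, hw, hwR⟩ := SetLike.exists_of_lt
      (Group.normalizerCondition_of_isNilpotent (G := U) _ hne)
    refine lt_of_le_not_ge (le_inf hRU Subgroup.le_normalizer) fun h => hwR ?_
    refine Subgroup.mem_subgroupOf.2 (h (show (w : X) ∈ U ⊓ Subgroup.normalizer (R : Set X) from
      ⟨w.2, Subgroup.mem_normalizer_iff.2 fun r => ?_⟩))
    constructor
    · intro hr
      exact (Subgroup.mem_normalizer_iff.1 hw ⟨r, hRU hr⟩).1 hr
    · intro hr
      have hrU : r ∈ U := by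
        have := mul_mem (mul_mem (inv_mem w.2) (hRU hr)) w.2
        simpa [mul_assoc] using this
      exact (Subgroup.mem_normalizer_iff.1 hw ⟨r, hrU⟩).2 hr
  have hlt' : Nat.card X - Nat.card R1 < Nat.card X - Nat.card R := by
    have h1 : Nat.card R < Nat.card R1 :=
      lt_of_not_ge fun h => hRR1.ne (Subgroup.eq_of_le_of_card_ge hRR1.le h)
    have h2 := Subgroup.card_le_card_group R1
    omega
  obtain ⟨V, hV, hVp, hVmax, hVle⟩ := ih _ hlt' R1 hR1p rfl
  refine ⟨V, hV, hVp, hVmax, ?_⟩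
  set D := coreC R with hD
  have hR1N : ∀ g ∈ R1, g ∈ Subgroup.normalizer (R : Set X) := fun g hg => hg.2
  have hR1D : R1 ≤ Subgroup.normalizer ((D ⊓ M : Subgroup X) : Set X) := by
    refine inf_le_normalizer (fun g hg => ?_) Cfsg.Comp.le_normalizer_of_normal
    refine Subgroup.mem_normalizer_iff.2 fun x => ⟨conj_mem_coreC (hR1N g hg), fun hx => ?_⟩
    simpa [mul_assoc] using conj_mem_coreC (hR1N _ (inv_mem hg)) hx
  have hDModd : ¬ 2 ∣ Nat.card (D ⊓ M : Subgroup X) := fun h =>
    not_dvd_card_coreC R (h.trans (Subgroup.card_dvd_of_le inf_le_left))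
  intro d hd
  obtain ⟨d0, hd0, hd0c⟩ := exists_mul_mem_centralizer hR1p hR1D hDModd d (fun g hg => by
    have hgd : g * d * g⁻¹ * d⁻¹ ∈ D := mul_mem (conj_mem_coreC (hR1N g hg) hd) (inv_mem hd)
    refine ⟨hgd, ?_⟩
    have hgMR : g ∈ M ⊔ R := Subgroup.map_subtype_le _ hg.1
    obtain ⟨e, he, r, hr, rfl⟩ := Subgroup.mem_sup_of_normal_left.mp hgMR
    have h6 : r * d = d * r := coreC_le_centralizer R hd r hr
    have h7 : e * r * d * (e * r)⁻¹ * d⁻¹ = e * (d * e⁻¹ * d⁻¹) := by
      calc e * r * d * (e * r)⁻¹ * d⁻¹ = e * (r * d) * r⁻¹ * e⁻¹ * d⁻¹ := by group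
        _ = e * (d * e⁻¹ * d⁻¹) := by rw [h6]; group
    rw [h7]
    exact mul_mem he (hMn.conj_mem _ (inv_mem he) d))
  have hle : D ⊓ Subgroup.centralizer (R1 : Set X) ≤ coreC R1 :=
    le_coreC inf_le_right (fun h => not_dvd_card_coreC R (h.trans (Subgroup.card_dvd_of_le inf_le_left)))
      fun c hc a ha => ⟨conj_mem_coreC (Subgroup.centralizer_le_normalizer _
        (Subgroup.centralizer_le hRR1.le hc)) ha.1,
        Subgroup.mul_mem _ (Subgroup.mul_mem _ hc ha.2) (Subgroup.inv_mem _ hc)⟩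
  have h0 : d0 ∈ layer X := by
    rw [← QuotientGroup.eq_one_iff]
    have h1 : QuotientGroup.mk' (layer X) d0 ∈ (pCore 2 X).map (QuotientGroup.mk' (layer X)) := by
      have h2 : QuotientGroup.mk' (layer X) d0 ∈ M.map (QuotientGroup.mk' (layer X)) :=
        Subgroup.mem_map_of_mem _ hd0.2
      rwa [hM, eTwo, Subgroup.map_sup, QuotientGroup.map_mk'_self, bot_sup_eq] at h2
    obtain ⟨i, hi⟩ := ((pCore_isPGroup 2).map (QuotientGroup.mk' (layer X))) ⟨_, h1⟩
    exact orderOf_eq_one_iff.1 (Nat.eq_one_of_dvd_coprimes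
      ((Nat.coprime_two_right.2 (hdodd d0 hd0.1)).pow_right i)
      (orderOf_map_dvd (QuotientGroup.mk' (layer X)) d0)
      (orderOf_dvd_of_pow_eq_one (congrArg Subtype.val hi)))
  have h8 : d = d0⁻¹ * (d0 * d) := by group
  rw [h8]
  exact mul_mem (le_sup_left (α := Subgroup X) (inv_mem h0))
    (hVle (hle ⟨mul_mem hd0.1 hd, hd0c⟩))

/-- **Core balance.** -/
theorem coreC_le_extendedTwoLayer (R : Subgroup X) (hR : IsPGroup 2 R) :
    coreC R ≤ extendedTwoLayer X := by
  haveI : Fact (Nat.Prime 2) := ⟨Nat.prime_two⟩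
  set O := pPrimeCore 2 X with hOdef
  set q := QuotientGroup.mk' O with hq
  have hOn : ¬ 2 ∣ Nat.card O := not_dvd_card_pPrimeCore 2
  -- the image of `O(C(R))`
  have himg : (coreC R).map q ≤ coreC (R.map q) := by
    refine le_coreC ?_ (fun h => not_dvd_card_coreC R (h.trans (Subgroup.card_map_dvd _ q))) ?_
    · rintro _ ⟨x, hx, rfl⟩ _ ⟨r, hr, rfl⟩
      show q r * q x = q x * q r
      rw [← map_mul, ← map_mul, coreC_le_centralizer R hx r hr]
    · rintro c hc _ ⟨x, hx, rfl⟩
      obtain ⟨c, hc', rfl⟩ := H71.exists_lift_centralizer hOn hR hc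
      exact ⟨c * x * c⁻¹, conj_mem_coreC (Subgroup.centralizer_le_normalizer _ hc') hx,
        by rw [map_mul, map_mul, map_inv]⟩
  obtain ⟨V, hV, hVp, hVmax, hVle⟩ :=
    coreC_le_aux (X := X ⧸ O) pPrimeCore_quotient_eq_bot _ (R.map q) (hR.map q) rfl
  -- lift `V` to a Sylow subgroup of `L(X) O_{2',2}(X)`
  have hM : (twoBase X).map q = eTwo (X ⧸ O) := by
    rw [eTwo, Subgroup.map_sup, map_pLayer, H10.map_pPrimePCore]
  obtain ⟨T, hT⟩ : ∃ T : Sylow 2 ↥(twoBase X),
      ((T : Subgroup _).map (twoBase X).subtype).map q = V := by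
    let f : ↥(twoBase X) →* ↥(eTwo (X ⧸ O)) :=
      (q.comp (twoBase X).subtype).codRestrict _ fun x => (le_of_eq hM) (Subgroup.mem_map_of_mem q x.2)
    have hf : Function.Surjective f := fun y => by
      obtain ⟨x, hx, hxy⟩ := (le_of_eq hM.symm) y.2
      exact ⟨⟨x, hx⟩, Subtype.ext hxy⟩
    obtain ⟨P, hP⟩ := (show IsPGroup 2 (V.subgroupOf (eTwo (X ⧸ O))) from hVp.comap_subtype).exists_le_sylow
    have hPeq : V.subgroupOf (eTwo (X ⧸ O)) = (P : Subgroup _) := by
      refine Subgroup.eq_of_le_of_card_ge hP ?_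
      rw [Comp.card_subgroupOf hV, ← Comp.card_map_subtype (P : Subgroup ↥(eTwo (X ⧸ O)))]
      exact hVmax _ (Subgroup.map_subtype_le _) (P.2.map _)
    obtain ⟨T, hT⟩ := Sylow.mapSurjective_surjective hf 2 P
    refine ⟨T, ?_⟩
    have h1 : ((T : Subgroup _).map f).map (eTwo (X ⧸ O)).subtype = V := by
      rw [← Sylow.coe_mapSurjective hf, hT, ← hPeq]
      exact Subgroup.map_subgroupOf_eq_of_le hV
    rw [Subgroup.map_map] at h1 ⊢
    exact h1
  set T' := (T : Subgroup _).map (twoBase X).subtype with hT'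
  have hT'p : IsPGroup 2 T' := T.2.map _
  have hcore : coreC V ≤ (coreC T').map q := by
    intro v hv
    have hle : (coreC V).comap q ⊓ Subgroup.centralizer (T' : Set X) ≤ coreC T' := by
      refine le_coreC inf_le_right (fun h => ?_) ?_
      · obtain ⟨⟨a, ha⟩, ha2⟩ := exists_prime_orderOf_dvd_card' 2 h
        rw [Subgroup.orderOf_mk] at ha2
        have h1 : q a = 1 := by
          refine orderOf_eq_one_iff.1 ((Nat.dvd_prime Nat.prime_two).1
            ((orderOf_map_dvd q a).trans ha2.dvd) |>.resolve_right fun h2 => ?_)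
          have h3 := Subgroup.orderOf_dvd_natCard (coreC V) (show q a ∈ coreC V from ha.1)
          rw [h2] at h3
          exact not_dvd_card_coreC V h3
        exact hOn (ha2 ▸ Subgroup.orderOf_dvd_natCard _ ((QuotientGroup.eq_one_iff a).1 h1))
      · rintro c hc a ⟨ha, hac⟩
        refine ⟨?_, Subgroup.mul_mem _ (Subgroup.mul_mem _ hc hac) (Subgroup.inv_mem _ hc)⟩
        show q (c * a * c⁻¹) ∈ coreC V
        rw [map_mul, map_mul, map_inv]
        refine conj_mem_coreC (Subgroup.centralizer_le_normalizer _ ?_) ha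
        rw [← hT]
        rintro _ ⟨t, ht, rfl⟩
        show q t * q c = q c * q t
        rw [← map_mul, ← map_mul, hc t ht]
    obtain ⟨c, hc, hcv⟩ := H71.exists_lift_centralizer hOn hT'p (z := v)
      (by rw [hT]; exact coreC_le_centralizer V hv)
    exact ⟨c, hle ⟨show q c ∈ coreC V by rw [hcv]; exact hv, hc⟩, hcv⟩
  have h1 : (coreC R).map q ≤ (pLayer 2 X ⊔ coreC T').map q := by
    rw [Subgroup.map_sup, map_pLayer]
    exact himg.trans (hVle.trans (sup_le_sup_left hcore _))
  have h2 : coreC R ≤ pLayer 2 X ⊔ coreC T' ⊔ O := by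
    rw [← QuotientGroup.ker_mk' O, ← Subgroup.comap_map_eq, ← Subgroup.map_le_iff_le_comap]
    exact h1
  refine h2.trans ?_
  rw [Cfsg.Agent.H9.extendedTwoLayer_eq_one T]
  exact sup_le (sup_le (le_sup_left.trans le_sup_left) le_sup_right) (le_sup_right.trans le_sup_left)

section Balance

variable {Y : Type u} [Group Y] [Finite Y] {W : Type u} [Group W] [Finite W]

/-- The 2-layer of a normal subgroup. -/
theorem map_pLayer_le_of_normal (g : W →* Y) (hg : Function.Injective g) (hn : g.range.Normal) :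
    (pLayer 2 W).map g ≤ pLayer 2 Y := by
  haveI : Fact (Nat.Prime 2) := ⟨Nat.prime_two⟩
  set O := pPrimeCore 2 Y with hO
  set πW := QuotientGroup.mk' (pPrimeCore 2 W) with hπW
  set π := QuotientGroup.mk' O with hπ
  set N := g.range.map π with hN
  have hNn : N.Normal := hn.map π (QuotientGroup.mk'_surjective _)
  let e := MonoidHom.ofInjective hg
  have hker : (π.comp g).ker ≤ pPrimeCore 2 W := by
    refine Comp.le_pPrimeCore inferInstance (Comp.coprime_iff_not_dvd.2 fun h => ?_)
    refine not_dvd_card_pPrimeCore 2 (G := Y) (h.trans ?_)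
    rw [← Subgroup.card_map_of_injective (K := (π.comp g).ker) hg]
    refine Subgroup.card_dvd_of_le ?_
    rintro _ ⟨a, ha, rfl⟩
    exact (QuotientGroup.eq_one_iff _).1 (MonoidHom.mem_ker.1 ha)
  have hcore : ∀ a ∈ pPrimeCore 2 W, g a ∈ O := fun a ha => by
    have h1 := Comp.pPrimeCore_map_subtype_le 2 (hn.isSubnormal)
      ⟨e a, Cfsg.Agent.H9.map_pPrimeCore_le 2 e ⟨a, ha, rfl⟩, rfl⟩
    exact h1
  let f : W ⧸ pPrimeCore 2 W →* Y ⧸ O :=
    QuotientGroup.lift _ (π.comp g) fun a ha => (QuotientGroup.eq_one_iff _).2 (hcore a ha)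
  have hfinj : Function.Injective f := by
    rw [injective_iff_map_eq_one]
    intro x hx
    obtain ⟨a, rfl⟩ := QuotientGroup.mk'_surjective _ x
    exact (QuotientGroup.eq_one_iff a).2 (hker hx)
  have hfr : f.range = N := by
    ext y
    constructor
    · rintro ⟨x, rfl⟩
      obtain ⟨a, rfl⟩ := QuotientGroup.mk'_surjective _ x
      exact ⟨g a, ⟨a, rfl⟩, rfl⟩
    · rintro ⟨_, ⟨a, rfl⟩, rfl⟩
      exact ⟨πW a, rfl⟩
  rw [Subgroup.map_le_iff_le_comap]
  refine sSup_le fun K hK => ?_
  have hKc : IsComponent ((K.map πW).map f) := by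
    have h1 := isComponent_map_subtype (H := f.range) (by rw [hfr]; exact hNn.isSubnormal)
      (isComponent_map_equiv (MonoidHom.ofInjective hfinj) hK.2.1)
    rw [Subgroup.map_map] at h1
    exact h1
  have h2 : (K.map g).map π ≤ (pLayer 2 Y).map π := by
    rw [map_pLayer, Subgroup.map_map]
    refine le_trans (le_of_eq ?_) (le_layer hKc)
    rw [Subgroup.map_map]
    rfl
  rw [← isPComponent_pGen_self hK, pGen, Subgroup.closure_le]
  rintro x ⟨hx, k, hk⟩
  have hn' : (pLayer 2 Y).Normal := pLayer_normal 2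
  refine pElement_mem_of_mem_sup hn'.isSubnormal (not_dvd_card_pPrimeCore 2)
    (k := k) (by rw [← map_pow, hk, map_one]) ?_
  have h3 : π (g x) ∈ (pLayer 2 Y).map π := h2 ⟨g x, ⟨x, hx, rfl⟩, rfl⟩
  rw [← QuotientGroup.ker_mk' (pPrimeCore 2 Y), ← Subgroup.comap_map_eq]
  exact h3

/-- **Extended 2-layer balance.** -/
theorem map_extendedTwoLayer_le (f : W →* Y) (hf : Function.Injective f) (R : Subgroup Y)
    (hR : IsPGroup 2 R) (hrange : f.range ≤ Subgroup.centralizer (R : Set Y))
    (hnorm : ∀ c ∈ Subgroup.centralizer (R : Set Y), ∀ a ∈ f.range, c * a * c⁻¹ ∈ f.range) :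
    (extendedTwoLayer W).map f ≤ extendedTwoLayer Y := by
  haveI : Fact (Nat.Prime 2) := ⟨Nat.prime_two⟩
  set C := Subgroup.centralizer (R : Set Y) with hC
  -- conjugation on `W`
  have hauto : ∀ c ∈ C, ∃ e : W ≃* W, ∀ w, f (e w) = c * f w * c⁻¹ := by
    intro c hc
    let ef := MonoidHom.ofInjective hf
    have hcn : c ∈ Subgroup.normalizer (f.range : Set Y) :=
      Subgroup.mem_normalizer_iff.2 fun x => ⟨hnorm c hc x, fun hx => by
        simpa [mul_assoc] using hnorm _ (inv_mem hc) _ hx⟩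
    let φ : f.range ≃* f.range :=
      { toFun := fun a => ⟨c * a * c⁻¹, (Subgroup.mem_normalizer_iff.1 hcn a).1 a.2⟩
        invFun := fun a => ⟨c⁻¹ * a * c⁻¹⁻¹, (Subgroup.mem_normalizer_iff.1 (inv_mem hcn) a).1 a.2⟩
        left_inv := fun a => Subtype.ext (by simp [mul_assoc])
        right_inv := fun a => Subtype.ext (by simp [mul_assoc])
        map_mul' := fun a b => Subtype.ext (by simp [mul_assoc]) }
    refine ⟨(ef.trans φ).trans ef.symm, fun w => ?_⟩
    have h1 := congrArg Subtype.val (ef.apply_symm_apply (φ (ef w)))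
    exact h1
  rw [Cfsg.Agent.H9.extendedTwoLayer_eq, Subgroup.map_sup, Subgroup.map_sup, Subgroup.map_iSup]
  refine sup_le (sup_le ?_ ?_) (iSup_le fun T => ?_)
  · -- the layer
    let g : W →* C := f.codRestrict C fun w => hrange ⟨w, rfl⟩
    have hg : Function.Injective g := fun a b h => hf (congrArg Subtype.val h)
    have hgn : g.range.Normal := ⟨by
      rintro _ ⟨w, rfl⟩ c
      obtain ⟨v, hv⟩ := hnorm c c.2 (f w) ⟨w, rfl⟩
      exact ⟨v, Subtype.ext hv⟩⟩
    have h1 := (Subgroup.map_mono (f := C.subtype) (map_pLayer_le_of_normal g hg hgn)).trans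
      (pLayer_centralizer_le R hR)
    rw [Subgroup.map_map] at h1
    exact h1.trans (le_sup_left.trans le_sup_left)
  · -- the core
    refine le_trans (le_coreC ((Subgroup.map_le_range f _).trans hrange) ?_ ?_)
      (coreC_le_extendedTwoLayer R hR)
    · rw [Subgroup.card_map_of_injective hf]
      exact not_dvd_card_pPrimeCore 2
    · rintro c hc _ ⟨w, hw, rfl⟩
      obtain ⟨e, he⟩ := hauto c hc
      exact ⟨e w, Cfsg.Agent.H9.map_pPrimeCore_le 2 e ⟨w, hw, rfl⟩, he w⟩
  · -- the cores of centralizers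
    set S := (T : Subgroup _).map (pLayer 2 W ⊔ pPrimePCore 2 W).subtype with hS
    have hSp : IsPGroup 2 (S.map f) := (T.2.map _).map f
    have hRS : IsPGroup 2 (R ⊔ S.map f : Subgroup Y) :=
      hR.to_sup_of_normal_left' hSp
        (((Subgroup.map_le_range f S).trans hrange).trans (Subgroup.centralizer_le_normalizer _))
    refine le_trans (le_coreC ?_ ?_ ?_) (coreC_le_extendedTwoLayer _ hRS)
    · rw [Subgroup.le_centralizer_iff]
      refine sup_le ?_ ?_
      · exact Subgroup.le_centralizer_iff.1 ((Subgroup.map_le_range f _).trans hrange)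
      · rintro _ ⟨s, hs, rfl⟩ _ ⟨w, hw, rfl⟩
        rw [← map_mul, ← map_mul, coreC_le_centralizer S hw s hs]
    · rw [Subgroup.card_map_of_injective hf]
      exact not_dvd_card_coreC S
    · rintro c hc _ ⟨w, hw, rfl⟩
      have hcR : c ∈ C := fun r hr => hc r (le_sup_left (α := Subgroup Y) hr)
      obtain ⟨e, he⟩ := hauto c hcR
      refine ⟨e w, ?_, he w⟩
      have heS : S.map e.toMonoidHom = S := by
        have hfix : ∀ s ∈ S, e s = s := fun s hs => hf (by
          rw [he s, ← hc (f s) (le_sup_right (α := Subgroup Y) ⟨s, hs, rfl⟩), mul_inv_cancel_right])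
        ext y
        refine ⟨?_, fun hy => ⟨y, hy, hfix y hy⟩⟩
        rintro ⟨s, hs, rfl⟩
        show e s ∈ S
        rwa [hfix s hs]
      exact heS ▸ map_coreC_le e S ⟨w, hw, rfl⟩

end Balance

end H85.CoreBal
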