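import Cfsg.Agent.H85.InflationRank
import Cfsg.Agent.H85.ZStarApps
import Cfsg.Agent.H85.QuatEight

/-!
The principal two block with quaternion Sylow subgroups of order eight (helper85): it consists of
seven characters.
-/

set_option autoImplicit false
set_option linter.style.haveILetI false
set_option linter.unusedSectionVars false

open Cfsg

namespace H85.QCount

universe u

theorem q8_sq : ∀ a b : QuaternionGroup 2, a * a ≠ 1 → b * b = 1 ∨ b * b = a * a := by
  decide +kernel

theorem q8_exists_four : ∃ a : QuaternionGroup 2, a * a ≠ 1 := ⟨QuaternionGroup.a 1, by decide +kernel⟩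

theorem q8_invol : ∀ a b : QuaternionGroup 2, a * a ≠ 1 → b * b = 1 → b = 1 ∨ b = a * a := by
  decide +kernel

variable {G : Type u} [Group G] [Finite G]

/-- The centralizer of an element of order four of a quaternion Sylow subgroup has a normal
two-complement. -/
theorem centralizer_complement_q8 (P : Sylow 2 G) (e : (P : Subgroup G) ≃* QuaternionGroup 2)
    {x : G} (hxP : x ∈ P) (hx2 : x * x ≠ 1) :
    HasNormalPComplement 2 ↥(Subgroup.centralizer ({x} : Set G)) := by
  haveI : Fact (Nat.Prime 2) := ⟨Nat.prime_two⟩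
  have hx4 : x ^ 4 = 1 := by
    have h := q8_pow_four (e ⟨x, hxP⟩)
    rw [← map_mul, ← map_mul, ← map_mul, MulEquiv.map_eq_one_iff] at h
    rw [pow_succ, pow_succ, pow_two]
    exact congrArg Subtype.val h
  have sqne : ∀ a : (P : Subgroup G), (a : G) * a ≠ 1 → e a * e a ≠ 1 := fun a ha h => ha (by
    rw [← map_mul, MulEquiv.map_eq_one_iff] at h
    exact congrArg Subtype.val h)
  obtain ⟨R⟩ : Nonempty (Sylow 2 (Subgroup.centralizer ({x} : Set G))) := inferInstance
  have hxC : x ∈ Subgroup.centralizer ({x} : Set G) := fun w hw => by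
    rw [Set.mem_singleton_iff.1 hw]
  have hxR : (⟨x, hxC⟩ : Subgroup.centralizer ({x} : Set G)) ∈ (R : Subgroup _) := by
    haveI : (Subgroup.zpowers (⟨x, hxC⟩ : Subgroup.centralizer ({x} : Set G))).Normal :=
      exists_zpowers_normal (Subgroup.mem_center_iff.2 fun g =>
        Subtype.ext (g.2 x rfl).symm)
    refine IsPGroup.le_sylow_of_normal (IsPGroup.of_card (n := 2) ?_) R (Subgroup.mem_zpowers _)
    rw [Nat.card_zpowers, Subgroup.orderOf_mk]
    exact orderOf_eq_prime_pow (n := 1) (by rw [pow_one, pow_two]; exact hx2)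
      (by rw [show (2 : ℕ) ^ (1 + 1) = 4 from rfl]; exact hx4)
  have hle : (R : Subgroup _).map (Subgroup.centralizer ({x} : Set G)).subtype ≤
      Subgroup.zpowers x := by
    obtain ⟨T, hT⟩ := (R.2.map (Subgroup.centralizer ({x} : Set G)).subtype).exists_le_sylow
    obtain ⟨h, hh⟩ := MulAction.exists_smul_eq G T P
    have hmem : ∀ y ∈ (R : Subgroup _).map (Subgroup.centralizer ({x} : Set G)).subtype,
        h * y * h⁻¹ ∈ (P : Subgroup G) := fun y hy => by
      rw [← hh]
      exact Subgroup.smul_mem_pointwise_smul y (MulAut.conj h) _ (hT hy)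
    intro y hy
    have hy' := hmem y hy
    have hx' := hmem x ⟨⟨x, hxC⟩, hxR, rfl⟩
    obtain ⟨y₀, -, rfl⟩ := hy
    have hc : h * x * h⁻¹ * (h * y₀ * h⁻¹) = h * y₀ * h⁻¹ * (h * x * h⁻¹) := by
      calc h * x * h⁻¹ * (h * y₀ * h⁻¹) = h * (x * y₀) * h⁻¹ := by group
        _ = h * (y₀ * x) * h⁻¹ := by rw [y₀.2 x rfl]
        _ = h * y₀ * h⁻¹ * (h * x * h⁻¹) := by group
    have h8 := q8_commute (e ⟨_, hx'⟩) (e ⟨_, hy'⟩)
      (sqne _ (by rw [conj_mul, Ne, conj_eq_one_iff]; exact hx2))
      (by rw [← map_mul, ← map_mul]; exact congrArg e (Subtype.ext hc))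
    simp only [← map_mul, ← map_one e, e.injective.eq_iff, Subtype.ext_iff, Subgroup.coe_mul,
      Subgroup.coe_one, conj_mul, conj_eq_one_iff, mul_left_inj, mul_right_inj,
      Subgroup.coe_subtype] at h8
    rcases h8 with h8 | h8 | h8 | h8 <;> rw [Subgroup.coe_subtype, h8]
    exacts [one_mem _, Subgroup.mem_zpowers x, mul_mem (Subgroup.mem_zpowers x)
      (Subgroup.mem_zpowers x), mul_mem (mul_mem (Subgroup.mem_zpowers x)
        (Subgroup.mem_zpowers x)) (Subgroup.mem_zpowers x)]
  haveI : IsCyclic R := by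
    haveI : IsCyclic ((R : Subgroup _).map (Subgroup.centralizer ({x} : Set G)).subtype) :=
      isCyclic_of_injective _ (Subgroup.inclusion_injective hle)
    let E := (R : Subgroup _).equivMapOfInjective _
        (Subgroup.centralizer ({x} : Set G)).subtype_injective
    exact isCyclic_of_injective E.toMonoidHom E.injective
  exact hasNormalPComplement_of_cyclic_two R

variable [Fintype G] {M : Ideal AlgInt} [hMp : M.IsPrime]

/-- The principal two-block has seven characters. -/
theorem card_principalBlock_q8 (hM : IsPModular 2 M) (S : Sylow 2 G)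
    (e : (S : Subgroup G) ≃* QuaternionGroup 2)
    (hO : ∀ N : Subgroup G, N.Normal → Odd (Nat.card N) → N = ⊥)
    (hG : (S : Subgroup G) ≠ ⊤) : Nat.card (principalBlock M G) = 7 := by
  classical
  haveI : Fact (Nat.Prime 2) := ⟨Nat.prime_two⟩
  have hnc : ¬ HasNormalPComplement 2 G := by
    rintro ⟨T, K, hKn, hK⟩
    refine hG ?_
    have hKo : Odd (Nat.card K) := by
      rw [← Nat.not_even_iff_odd, even_iff_two_dvd]
      have h2 := hK.card_mul_card
      have h3 := (T : Subgroup G).card_mul_index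
      rw [← h3, mul_comm (Nat.card T)] at h2
      rw [Nat.eq_of_mul_eq_mul_right Nat.card_pos h2]
      exact T.not_dvd_index
    have h1 := hK.card_mul_card
    rw [hO K hKn hKo, Subgroup.card_bot, one_mul] at h1
    apply Subgroup.eq_top_of_card_eq
    rw [← h1]
    exact Nat.card_congr (Sylow.equiv S T).toEquiv
  obtain ⟨a', ha'⟩ := q8_exists_four
  obtain ⟨⟨x, hxS⟩, rfl⟩ := e.surjective a'
  have hx2 : x * x ≠ 1 := fun h => ha' (by
    rw [← map_mul, MulEquiv.map_eq_one_iff]; exact Subtype.ext h)
  have sqne : ∀ a : (S : Subgroup G), (a : G) * a ≠ 1 → e a * e a ≠ 1 := fun a ha h => ha (by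
    rw [← map_mul, MulEquiv.map_eq_one_iff] at h
    exact congrArg Subtype.val h)
  -- squares in S
  have hsqS : ∀ y ∈ (S : Subgroup G), y * y = 1 ∨ y * y = x * x := by
    intro y hy
    have h := q8_sq _ (e ⟨y, hy⟩) ha'
    simp only [← map_mul, ← map_one e, e.injective.eq_iff, Subtype.ext_iff, Subgroup.coe_mul,
      Subgroup.coe_one] at h
    exact h
  have hinvS : ∀ y ∈ (S : Subgroup G), y * y = 1 → y = 1 ∨ y = x * x := by
    intro y hy hyy
    have h := q8_invol _ (e ⟨y, hy⟩) ha' (by
      rw [← map_mul, MulEquiv.map_eq_one_iff]; exact Subtype.ext hyy)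
    simp only [← map_mul, ← map_one e, e.injective.eq_iff, Subtype.ext_iff, Subgroup.coe_mul,
      Subgroup.coe_one] at h
    exact h
  set z := x * x with hzdef
  have hz1 : z ≠ 1 := hx2
  have hzS : z ∈ (S : Subgroup G) := mul_mem hxS hxS
  -- the centre
  obtain ⟨c, hc1, hcc⟩ : ∃ c : G, c ≠ 1 ∧ c ∈ Subgroup.center G := by
    have h2 := H85.center_card_two S 0 e hO
    haveI : Nontrivial (Subgroup.center G) := Finite.one_lt_card_iff_nontrivial.1 (by omega)
    obtain ⟨c, hc⟩ := exists_ne (1 : Subgroup.center G)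
    exact ⟨c, fun h => hc (Subtype.ext h), c.2⟩
  have hcord : c * c = 1 := by
    have h2 := H85.center_card_two S 0 e hO
    have := pow_card_eq_one' (G := Subgroup.center G) (x := ⟨c, hcc⟩)
    rw [h2, pow_two] at this
    exact congrArg Subtype.val this
  have hcS : c ∈ (S : Subgroup G) := by
    haveI := exists_zpowers_normal hcc
    exact IsPGroup.le_sylow_of_normal (IsPGroup.of_card (n := 1) (by
      rw [Nat.card_zpowers, orderOf_eq_prime (by rw [pow_two]; exact hcord) hc1]; rfl)) S
      (Subgroup.mem_zpowers c)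
  have hcz : c = z := (hinvS c hcS hcord).resolve_left hc1
  have hzc : z ∈ Subgroup.center G := hcz ▸ hcc
  have hzz : z * z = 1 := by rw [← hcz]; exact hcord
  have hUI : ∀ t : G, t ≠ 1 → t * t = 1 → t = z := by
    intro t ht1 htt
    obtain ⟨Q, hQ⟩ := (IsPGroup.of_card (n := 1) (G := Subgroup.zpowers t) (p := 2) (by
      rw [Nat.card_zpowers, orderOf_eq_prime (by rw [pow_two]; exact htt) ht1]; rfl)).exists_le_sylow
    obtain ⟨g, hg⟩ := MulAction.exists_smul_eq G Q S
    have hmem : g * t * g⁻¹ ∈ (S : Subgroup G) := by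
      rw [← hg]
      exact Subgroup.smul_mem_pointwise_smul t (MulAut.conj g) _ (hQ (Subgroup.mem_zpowers t))
    have h := (hinvS _ hmem (by rw [conj_mul, htt, mul_one, mul_inv_cancel])).resolve_left
      (fun h0 => ht1 (conj_eq_one_iff.1 h0))
    calc t = g⁻¹ * z * g := by rw [← h]; group
      _ = z := by rw [Subgroup.mem_center_iff.1 hzc g⁻¹, inv_mul_cancel_right]
  have hfour : ∀ g : G, (∃ k : ℕ, orderOf g = 2 ^ k) → g * g ≠ 1 → IsConj g x := by
    intro g ⟨k, hk⟩ hgg
    obtain ⟨Q, hQ⟩ := (IsPGroup.of_card (n := k) (G := Subgroup.zpowers g) (p := 2) (by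
      rw [Nat.card_zpowers, hk])).exists_le_sylow
    obtain ⟨h, hh⟩ := MulAction.exists_smul_eq G Q S
    have hmem : h * g * h⁻¹ ∈ (S : Subgroup G) := by
      rw [← hh]
      exact Subgroup.smul_mem_pointwise_smul g (MulAut.conj h) _ (hQ (Subgroup.mem_zpowers g))
    obtain ⟨n, -, hn⟩ := exists_conj_q8 S e hnc hmem hxS
      (fun h0 => hgg (conj_eq_one_iff.1 (conj_mul.symm.trans h0))) hx2
    exact _root_.isConj_iff.2 ⟨n * h, (by rw [← hn]; group : n * h * g * (n * h)⁻¹ = x)⟩
  -- conjugacy classes of 2-elements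
  have hX : ∀ y ∈ ({1, z, x} : Finset G), ∃ k : ℕ, orderOf y = 2 ^ k := by
    intro y hy
    simp only [Finset.mem_insert, Finset.mem_singleton] at hy
    obtain ⟨k, hk⟩ := IsPGroup.iff_orderOf.1 S.2 ⟨y, by
      rcases hy with rfl | rfl | rfl
      exacts [one_mem _, hzS, hxS]⟩
    exact ⟨k, by rw [← hk, Subgroup.orderOf_mk]⟩
  have hzx : z ≠ x := fun h => hx2 ((congrArg (fun w => w * w) h).symm.trans hzz)
  have hXrep : ∀ g : G, (∃ k : ℕ, orderOf g = 2 ^ k) →
      ∃! y, y ∈ ({1, z, x} : Finset G) ∧ IsConj g y := by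
    intro g hg
    by_cases hg1 : g = 1
    · subst hg1
      refine ⟨1, ⟨by simp, IsConj.refl _⟩, fun y hy => ?_⟩
      exact isConj_one_right.1 hy.2
    by_cases hgg : g * g = 1
    · rw [hUI g hg1 hgg]
      refine ⟨z, ⟨by simp, IsConj.refl _⟩, fun y hy => ?_⟩
      obtain ⟨c', hc'⟩ := _root_.isConj_iff.1 hy.2
      rw [← hc', Subgroup.mem_center_iff.1 hzc c', mul_inv_cancel_right]
    · refine ⟨x, ⟨by simp, hfour g hg hgg⟩, fun y hy => ?_⟩
      obtain ⟨hy1, hy2⟩ := hy
      simp only [Finset.mem_insert, Finset.mem_singleton] at hy1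
      rcases hy1 with rfl | rfl | rfl
      · exact absurd (isConj_one_left.1 hy2) hg1
      · obtain ⟨c', hc'⟩ := _root_.isConj_iff.1 hy2.symm
        rw [Subgroup.mem_center_iff.1 hzc c', mul_inv_cancel_right] at hc'
        exact absurd (by rw [← hc', hzz]) hgg
      · rfl
  -- the centralizers
  have hset : ∀ y ∈ ({1, z, x} : Finset G),
      {b : Set (IrrCharacter ↥(Subgroup.centralizer ({y} : Set G))) |
        IsInducedBlock M (Subgroup.centralizer ({y} : Set G)) b (principalBlock M G)} =
      {principalBlock M ↥(Subgroup.centralizer ({y} : Set G))} := by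
    intro y hy
    haveI := Fintype.ofFinite ↥(Subgroup.centralizer ({y} : Set G))
    exact Set.ext fun b => H22.Sub.induces_principal_iff hM (hX y hy) b
  have hk := H22.Sub.card_block_eq_sum_ranks (M := M) hM H20.isPBlock_principalBlock {1, z, x}
    hX hXrep
  rw [Finset.sum_congr rfl fun y hy => by rw [hset y hy, finsum_mem_singleton],
    Finset.sum_insert (by simp [Ne.symm hz1, show ¬ (1 : G) = x from fun h => hx2 (show x * x = 1 by rw [← h, one_mul])]),
    Finset.sum_pair hzx] at hk
  haveI := Fintype.ofFinite ↥(Subgroup.centralizer ({(1 : G)} : Set G))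
  haveI := Fintype.ofFinite ↥(Subgroup.centralizer ({z} : Set G))
  haveI := Fintype.ofFinite ↥(Subgroup.centralizer ({x} : Set G))
  have hzrank : blockRank 2 (principalBlock M ↥(Subgroup.centralizer ({z} : Set G))) =
      blockRank 2 (principalBlock M G) := by
    have htop : Subgroup.centralizer ({z} : Set G) = ⊤ := by
      rw [Subgroup.eq_top_iff']
      intro g
      rw [Subgroup.mem_centralizer_singleton_iff]
      exact Subgroup.mem_center_iff.1 hzc g
    exact H22.Klein.blockRank_principal_congr ((MulEquiv.subgroupCongr htop).trans Subgroup.topEquiv)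
  rw [H22.Klein.blockRank_principal_centralizer_one, hzrank,
    H22.Sub.blockRank_principal_of_complement hM (centralizer_complement_q8 S e hxS hx2)] at hk
  -- the quotient by the centre
  let Z := Subgroup.zpowers z
  haveI : Z.Normal := exists_zpowers_normal hzc
  haveI : Fintype (G ⧸ Z) := Fintype.ofFinite _
  have hZp : IsPGroup 2 Z := IsPGroup.of_card (n := 1) (by
    rw [Nat.card_zpowers, orderOf_eq_prime (by rw [pow_two]; exact hzz) hz1]; rfl)
  rw [H85.blockRank_principal_quotient hM Z (Subgroup.zpowers_le.2 hzc) hZp] at hk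
  have h3 : blockRank 2 (principalBlock M (G ⧸ Z)) = 3 := by
    let P : Sylow 2 (G ⧸ Z) := S.mapSurjective (QuotientGroup.mk'_surjective Z)
    have hPmap : (P : Subgroup (G ⧸ Z)) = (S : Subgroup G).map (QuotientGroup.mk' Z) := rfl
    have hP : Nat.card P = 4 := by
      have h1 : Nat.card S = 8 := by
        rw [Nat.card_congr e.toEquiv, Nat.card_eq_fintype_card]; rfl
      have h2 : Nat.card Z = 2 := by
        rw [Nat.card_zpowers, orderOf_eq_prime (by rw [pow_two]; exact hzz) hz1]
      have h4 : (Nat.card G).factorization 2 = 3 := by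
        have h5 := S.card_eq_multiplicity
        rw [h1, show (8 : ℕ) = 2 ^ 3 from rfl] at h5
        exact (Nat.pow_right_injective le_rfl h5).symm
      have h6 : (Nat.card (G ⧸ Z)).factorization 2 = 2 := by
        rw [Subgroup.card_eq_card_quotient_mul_card_subgroup Z, h2,
          Nat.factorization_mul (by exact Nat.card_pos.ne') (by norm_num), Finsupp.add_apply,
          Nat.Prime.factorization_self Nat.prime_two] at h4
        omega
      rw [P.card_eq_multiplicity, h6]; rfl
    refine H22.Klein.blockRank_eq_three hM P hP ?_ (t := (x : G ⧸ Z))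
      (hPmap ▸ ⟨x, hxS, rfl⟩) ?_ ?_
    · rintro _ ⟨y, hy, rfl⟩
      rw [← map_mul, QuotientGroup.mk'_apply, QuotientGroup.eq_one_iff]
      rcases hsqS y hy with h | h <;> rw [h]
      exacts [one_mem _, Subgroup.mem_zpowers z]
    · refine orderOf_eq_prime ?_ ?_
      · rw [pow_two, ← QuotientGroup.mk_mul, QuotientGroup.eq_one_iff]
        exact Subgroup.mem_zpowers z
      · rw [Ne, QuotientGroup.eq_one_iff]
        intro h
        obtain ⟨k, hk'⟩ := Subgroup.mem_zpowers_iff.1 h
        refine hx2 ?_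
        show x * x = 1
        rw [← hk', ← (Commute.refl z).mul_zpow, hzz, one_zpow]
    · intro s hs
      induction s using QuotientGroup.induction_on with
      | H g =>
      have h5 : ((H20.pPart 2 g : G) : G ⧸ Z) = (g : G ⧸ Z) :=
        (H21.pPart_map (QuotientGroup.mk' Z) g).symm.trans (H22.Klein.pPart_involution hs)
      rw [← h5] at hs ⊢
      refine MonoidHom.map_isConj (QuotientGroup.mk' Z) (hfour _ (H20.exists_orderOf_pPart g) ?_)
      intro hgg
      have hne : H20.pPart 2 g ≠ 1 := fun h0 => by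
        rw [h0, QuotientGroup.mk_one, orderOf_one] at hs; omega
      rw [hUI _ hne hgg, (QuotientGroup.eq_one_iff z).2 (Subgroup.mem_zpowers z), orderOf_one] at hs
      omega
  omega

end H85.QCount
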